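import Cfsg.Agent.H0.PG2
set_option maxRecDepth 100000
set_option Elab.async false
set_option linter.unusedSectionVars false
namespace H0.ML37
open H0 BN 
noncomputable def n0 : Net := (Net.cons (nat_lit 32) (nat_lit 0x38cd8ac8) (Net.cons (nat_lit 16) (nat_lit 0x38e000005590) (Net.cons (nat_lit 8) (nat_lit 0x2800e000e10088) (Net.cons (nat_lit 4) (nat_lit 0xd000a080c080e) (Net.cons (nat_lit 2) (nat_lit 0x220020202202003) (Net.cons (nat_lit 1) (nat_lit 0x144444414104410) (Net.cons (nat_lit 2) (nat_lit 0x220022000202200) (Net.cons (nat_lit 4) (nat_lit 0xc00040808080e) (Net.cons (nat_lit 8) (nat_lit 0x2800e000e00080) (Net.cons (nat_lit 16) (nat_lit 0x200000005310) (Net.cons (nat_lit 32) (nat_lit 0x38cd8ac8) Net.nil)))))))))))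
noncomputable def n1 : Net := (Net.cons (nat_lit 32) (nat_lit 0x68127615) (Net.cons (nat_lit 16) (nat_lit 0x3f26000081dd) (Net.cons (nat_lit 8) (nat_lit 0x9008f00810034) (Net.cons (nat_lit 4) (nat_lit 0x80a0000010303) (Net.cons (nat_lit 2) (nat_lit 0x1332203003323303) (Net.cons (nat_lit 1) (nat_lit 0x444055004041051) (Net.cons (nat_lit 2) (nat_lit 0x2000002020000) (Net.cons (nat_lit 4) (nat_lit 0x806000006020a) (Net.cons (nat_lit 8) (nat_lit 0x20000600100018) (Net.cons (nat_lit 16) (nat_lit 0x1ea0000092d8) (Net.cons (nat_lit 32) (nat_lit 0x6800f4b0) Net.nil)))))))))))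
noncomputable def n2 : Net := (Net.cons (nat_lit 32) (nat_lit 0xc0581b7b) (Net.cons (nat_lit 16) (nat_lit 0xe96700004847) (Net.cons (nat_lit 8) (nat_lit 0x21004300bb003e) (Net.cons (nat_lit 4) (nat_lit 0x4010c000e06020b) (Net.cons (nat_lit 2) (nat_lit 0x130123132332301) (Net.cons (nat_lit 1) (nat_lit 0x411044114410441) (Net.cons (nat_lit 2) (nat_lit 0x2000000200220) (Net.cons (nat_lit 4) (nat_lit 0x40e08000a02020c) (Net.cons (nat_lit 8) (nat_lit 0xc8009400dc0002) (Net.cons (nat_lit 16) (nat_lit 0x68b00000788e) (Net.cons (nat_lit 32) (nat_lit 0xc1ed7cbc) Net.nil)))))))))))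
noncomputable def n3 : Net := (Net.cons (nat_lit 32) (nat_lit 0x41fe0080) (Net.cons (nat_lit 16) (nat_lit 0x4801000001f8) (Net.cons (nat_lit 8) (nat_lit 0x40090001000a4) (Net.cons (nat_lit 4) (nat_lit 0x802080a07090b06) (Net.cons (nat_lit 2) (nat_lit 0x130123032030330) (Net.cons (nat_lit 1) (nat_lit 0x4051104150150140) (Net.cons (nat_lit 2) (nat_lit 0x2200000020) (Net.cons (nat_lit 4) (nat_lit 0x8020a0806080804) (Net.cons (nat_lit 8) (nat_lit 0x4006200800092) (Net.cons (nat_lit 16) (nat_lit 0x482000000000) (Net.cons (nat_lit 32) (nat_lit 0x41df0000) Net.nil)))))))))))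
noncomputable def n4 : Net := (Net.cons (nat_lit 32) (nat_lit 0x6d501e4c) (Net.cons (nat_lit 16) (nat_lit 0x1e8200005996) (Net.cons (nat_lit 8) (nat_lit 0xc9000000900020) (Net.cons (nat_lit 4) (nat_lit 0x206040e040b080c) (Net.cons (nat_lit 2) (nat_lit 0x1300213022300222) (Net.cons (nat_lit 1) (nat_lit 0x4114445414101544) (Net.cons (nat_lit 2) (nat_lit 0x2202000020000002) (Net.cons (nat_lit 4) (nat_lit 0x4000c0c000808) (Net.cons (nat_lit 8) (nat_lit 0x8200ac00020082) (Net.cons (nat_lit 16) (nat_lit 0x3ad20000481c) (Net.cons (nat_lit 32) (nat_lit 0x6cb44e48) Net.nil)))))))))))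
noncomputable def n5 : Net := (Net.cons (nat_lit 32) (nat_lit 0x6cb44e48) (Net.cons (nat_lit 16) (nat_lit 0x3ad2000097a2) (Net.cons (nat_lit 8) (nat_lit 0x5d00ac00920018) (Net.cons (nat_lit 4) (nat_lit 0x400000c08070008) (Net.cons (nat_lit 2) (nat_lit 0x211033001211032) (Net.cons (nat_lit 1) (nat_lit 0x1414415405445050) (Net.cons (nat_lit 2) (nat_lit 0x20220000220000) (Net.cons (nat_lit 4) (nat_lit 0x602040e08020a00) (Net.cons (nat_lit 8) (nat_lit 0x26000000100028) (Net.cons (nat_lit 16) (nat_lit 0x1e8200009668) (Net.cons (nat_lit 32) (nat_lit 0x6d501e4c) Net.nil)))))))))))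
noncomputable def n6 : Net := (Net.cons (nat_lit 32) (nat_lit 0x677a7200) (Net.cons (nat_lit 16) (nat_lit 0xc33c0000bac0) (Net.cons (nat_lit 8) (nat_lit 0x4200ae00a000f0) (Net.cons (nat_lit 4) (nat_lit 0xe010d08080e040c) (Net.cons (nat_lit 2) (nat_lit 0x2322203122023200) (Net.cons (nat_lit 1) (nat_lit 0x4040405010015100) (Net.cons (nat_lit 2) (nat_lit 0x2020200020020200) (Net.cons (nat_lit 4) (nat_lit 0xe04000808080400) (Net.cons (nat_lit 8) (nat_lit 0x4200ac00a000f0) (Net.cons (nat_lit 16) (nat_lit 0x83180000bac0) (Net.cons (nat_lit 32) (nat_lit 0x677a7200) Net.nil)))))))))))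
noncomputable def n7 : Net := (Net.cons (nat_lit 32) (nat_lit 0x4914a04a) (Net.cons (nat_lit 16) (nat_lit 0x8bb3000025c6) (Net.cons (nat_lit 8) (nat_lit 0xcd00ae00cc006c) (Net.cons (nat_lit 4) (nat_lit 0xc000e0401020b0a) (Net.cons (nat_lit 2) (nat_lit 0x320331023212220) (Net.cons (nat_lit 1) (nat_lit 0x4040501444114104) (Net.cons (nat_lit 2) (nat_lit 0x20200202) (Net.cons (nat_lit 4) (nat_lit 0x8020402020200) (Net.cons (nat_lit 8) (nat_lit 0xcc00ba004e001a) (Net.cons (nat_lit 16) (nat_lit 0x82ba0000b630) (Net.cons (nat_lit 32) (nat_lit 0x4896e1ca) Net.nil)))))))))))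
noncomputable def n8 : Net := (Net.cons (nat_lit 32) (nat_lit 0x4896e1ca) (Net.cons (nat_lit 16) (nat_lit 0x74450000b630) (Net.cons (nat_lit 8) (nat_lit 0xba0023004e001a) (Net.cons (nat_lit 4) (nat_lit 0x104080009020d08) (Net.cons (nat_lit 2) (nat_lit 0x3330000332232022) (Net.cons (nat_lit 1) (nat_lit 0x1444404014141404) (Net.cons (nat_lit 2) (nat_lit 0x20200002222200) (Net.cons (nat_lit 4) (nat_lit 0x204000c0c020408) (Net.cons (nat_lit 8) (nat_lit 0xee006200cc006c) (Net.cons (nat_lit 16) (nat_lit 0x340c000025c6) (Net.cons (nat_lit 32) (nat_lit 0x4914a04a) Net.nil)))))))))))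
noncomputable def n9 : Net := (Net.cons (nat_lit 32) (nat_lit 0x40000000) (Net.cons (nat_lit 16) (nat_lit 0x620000008800) (Net.cons (nat_lit 8) (nat_lit 0x21005000b60040) (Net.cons (nat_lit 4) (nat_lit 0x20b08070b0d0c02) (Net.cons (nat_lit 2) (nat_lit 0x2021113100130122) (Net.cons (nat_lit 1) (nat_lit 0x4155001404140010) (Net.cons (nat_lit 2) (nat_lit 0x2000002000020020) (Net.cons (nat_lit 4) (nat_lit 0x204000808020402) (Net.cons (nat_lit 8) (nat_lit 0x5000b60040) (Net.cons (nat_lit 16) (nat_lit 0x620000008800) (Net.cons (nat_lit 32) (nat_lit 0x40000000) Net.nil)))))))))))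
noncomputable def n10 : Net := (Net.cons (nat_lit 32) (nat_lit 0xf8000000) (Net.cons (nat_lit 16) (nat_lit 0xdb4000008000) (Net.cons (nat_lit 8) (nat_lit 0xcb005800ee00b0) (Net.cons (nat_lit 4) (nat_lit 0x40505030e090708) (Net.cons (nat_lit 2) (nat_lit 0x21213303021230) (Net.cons (nat_lit 1) (nat_lit 0x1404444040015010) (Net.cons (nat_lit 2) (nat_lit 0x2000002020000000) (Net.cons (nat_lit 4) (nat_lit 0xc0a040400080808) (Net.cons (nat_lit 8) (nat_lit 0x7000b0006a00c8) (Net.cons (nat_lit 16) (nat_lit 0x7b1000008000) (Net.cons (nat_lit 32) (nat_lit 0xf8000000) Net.nil)))))))))))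
noncomputable def n11 : Net := (Net.cons (nat_lit 32) (nat_lit 0xf8000000) (Net.cons (nat_lit 16) (nat_lit 0x7b1000008000) (Net.cons (nat_lit 8) (nat_lit 0xcb00b000ea00c8) (Net.cons (nat_lit 4) (nat_lit 0x1080d0a08030708) (Net.cons (nat_lit 2) (nat_lit 0x3220303123002230) (Net.cons (nat_lit 1) (nat_lit 0x1014140140100540) (Net.cons (nat_lit 2) (nat_lit 0x2000000000200000) (Net.cons (nat_lit 4) (nat_lit 0xa0400080c020808) (Net.cons (nat_lit 8) (nat_lit 0x38005800ec00b0) (Net.cons (nat_lit 16) (nat_lit 0xdb4000008000) (Net.cons (nat_lit 32) (nat_lit 0xf8000000) Net.nil)))))))))))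
noncomputable def n12 : Net := (Net.cons (nat_lit 32) (nat_lit 0x7673a5b6) (Net.cons (nat_lit 16) (nat_lit 0x55160000a755) (Net.cons (nat_lit 8) (nat_lit 0x89000300a00051) (Net.cons (nat_lit 4) (nat_lit 0xe0505070800010e) (Net.cons (nat_lit 2) (nat_lit 0x2012200321201200) (Net.cons (nat_lit 1) (nat_lit 0x104411004514111) (Net.cons (nat_lit 2) (nat_lit 0x202222000020202) (Net.cons (nat_lit 4) (nat_lit 0x800080400040000) (Net.cons (nat_lit 8) (nat_lit 0xda00d4008200c8) (Net.cons (nat_lit 16) (nat_lit 0x62a80000264e) (Net.cons (nat_lit 32) (nat_lit 0x77f57560) Net.nil)))))))))))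
def B : List (List ℕ) := [[0, 0], [1, 2], [2, 1], [3, 3], [4, 5], [5, 4], [6, 6], [7, 8], [8, 7], [9, 9], [10, 11], [11, 10], [10, 10, 10, 10, 10, 10], [9, 10, 9, 10, 9, 10, 9, 10, 9, 10, 9, 10], [9, 10, 9, 11], [9, 11, 9, 11, 9, 11, 9, 11, 9, 11, 9, 11], [7, 7, 7, 7, 7, 7], [6, 8, 6, 8, 6, 8, 9], [6, 7, 7, 6, 8, 11], [6, 7, 6, 7, 6, 7, 6, 7, 6, 7, 6, 7], [6, 7, 6, 8, 6, 7, 6, 8, 6, 7, 6, 8, 6, 7, 6, 8, 6, 7, 6, 8, 6, 7, 6, 8, 6, 7, 6, 8], [6, 8, 6, 8, 6, 8, 6, 8, 6, 8, 6, 8], [8, 9, 7, 6, 9, 6], [8, 10, 6, 11, 8, 11, 9], [7, 9, 8, 11, 8, 6, 11], [6, 7, 10, 8, 9, 6, 11, 9], [4, 4, 4, 4, 4, 4], [3, 5, 3, 4, 3, 6], [5, 5, 3, 4, 3, 4, 4, 3, 5, 8], [3, 4, 3, 4, 3, 4, 3, 4, 3, 4, 3, 4, 3, 4, 3, 4], [3, 5, 3, 5, 3, 5, 3, 5, 3, 5, 3, 5, 3, 5, 3, 5], [3, 9, 3, 9], [3, 10, 3, 10, 9], [5, 6, 4, 10, 6, 8], [4, 4, 10, 4, 10, 10], [4, 6, 5, 10, 9, 8, 9, 6], [4, 8, 11, 4, 7, 10, 7, 7], [4, 10, 8, 5, 8,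 6, 7, 6], [4, 3, 4, 8, 3, 7, 11, 11], [3, 6, 7, 3, 5, 10, 7, 9, 7], [1, 1, 1, 1], [1, 0, 2, 2, 0, 2, 3], [2, 2, 0, 1, 1, 0, 1, 0, 1, 5], [0, 1, 0, 2, 0, 1, 0, 2, 0, 1, 0, 2, 0, 1, 0, 2], [0, 5, 2, 3, 6, 9, 8, 4], [1, 9, 2, 10, 4, 3, 8, 3], [1, 6, 0, 7, 9, 6, 3, 7, 4], [2, 3, 1, 6, 11, 3, 10, 7, 4, 3], [0, 3, 7, 3, 0, 3, 7, 3], [0, 8, 3, 7, 0, 11, 6, 4, 4], [0, 9, 3, 0, 3, 7, 9, 3, 8, 3], [0, 8, 4, 11, 0, 10, 5, 7], [0, 11, 7, 1, 9, 7, 9, 7, 5], [0, 1, 5, 10, 0, 1, 5, 10], [0, 1, 5, 0, 4, 2, 0, 3], [1, 3, 11, 11, 2, 7, 10, 10, 6], [0, 11, 1, 3, 0, 3, 11, 6, 8], [2, 4, 7, 10, 0, 7, 10, 5, 5], [2, 0, 6, 0, 1, 11, 11, 11, 9], [1, 8, 3, 7, 2, 10, 4, 9, 6], [2, 10, 1, 11, 2, 9, 5, 5, 5, 3], [1, 3, 5, 0, 2, 8, 8, 8, 3, 5], [2, 0, 9, 2, 0, 7, 6, 7, 10, 6], [2, 6, 2, 10, 1, 7, 6, 4, 3, 4], [1, 11, 7, 2, 2, 10, 4, 3, 8, 11], [0, 8, 2, 6, 1, 7, 4, 3, 10, 8], [1, 10, 1, 8, 1, 3, 8, 4, 10, 4]]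
def inv (x : ℕ) : ℕ := [0, 2, 1, 3, 5, 4, 6, 8, 7, 9, 11, 10].getD x 0
noncomputable def nl : List Net := [n0, n1, n2, n3, n4, n5, n6, n7, n8, n9, n10, n11, n12]
theorem nl_ok : allL (Net.ok (nat_lit 64)) nl = true := by decide +kernel
noncomputable def R : Rep := mkRep (nat_lit 6) (nat_lit 64) nl (by decide +kernel) nl_ok
def defs : List (List ℕ) := [[1, 0, 2, 1, 2, 0, 2, 0]]
theorem R_ge : ∀ x, 12 + defs.length ≤ x → R.p x = 1 := fun _ hx => mkRep_ge hx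
def ngSt : List (List (ℕ × List ℕ) × List ℕ × ℕ × ℕ) := [([(0, []), (0, [3])], [0], 3, 2), ([(1, [])], [9], 3, 2), ([(1, [])], [6], 7, 2), ([(3, [])], [1], 19, 4), ([(4, [])], [2], 1, 4), ([(5, [])], [4], 19, 6), ([(6, [])], [5], 1, 6), ([(6, [])], [7], 7, 6), ([(8, [])], [8], 1, 6), ([(6, [])], [10], 7, 6), ([(10, [])], [11], 1, 6), ([(0, []), (0, [0])], [3], 1, 2)]
def ngR : List (List ℕ) := ngRels inv ngSt [[12]]
def xR : List (List ℕ) := [wpow [12] 19]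
theorem c0 : relsW R 0 R.lg ((B.drop 0).take 67) = true := by decide +kernel
theorem c1 : defsChk R defs 12 = true := by decide +kernel
theorem c2 : Model.fixW R [] [[0], [1]] = true := by decide +kernel
theorem c3 : Model.growW R [[0], [1]] [0, 1, 0, 1, 0, 1, 0, 1, 1, 0, 1, 1, 1, 0, 1, 0, 1, 0, 1] (Nat.pow 2 0) (ival 0 57) = true := by decide +kernel
theorem c4 : Model.fixW R [0] [[3], [4]] = true := by decide +kernel
theorem c5 : Model.growW R [[3], [4]] [0, 1, 0, 1, 0, 1, 0, 1, 0, 1, 1, 0, 1, 1] (Nat.pow 2 1) (ival 1 56) = true := by decide +kernel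
theorem c6 : Model.fixW R [1, 0] [[6], [7]] = true := by decide +kernel
theorem c7 : Model.growW R [[6], [7]] [0, 1, 0, 1, 0, 1, 0, 1, 0, 1, 1, 0] (Nat.pow 2 2) (ival 2 49) = true := by decide +kernel
theorem c8 : Model.fixW R [2, 1, 0] [[9], [10]] = true := by decide +kernel
theorem c9 : Model.growW R [[9], [10]] [0, 1, 1, 1, 1, 1] (Nat.pow 2 15) (ival 15 12) = true := by decide +kernel
theorem c10 : Model.growW R [[0], [1]] [0, 1, 0, 1, 0, 1, 0, 1, 1, 0, 1, 1, 1, 0, 1, 0, 1, 0, 1] (Nat.pow 2 0) (ival 0 57) = true := by decide +kernel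
theorem c11 : Model.invW R [[0], [1], [2], [3], [4], [5], [6], [7], [8], [9], [10], [11]] 0 57 = true := by decide +kernel
theorem c12 : Model.fixW R [0] [[3], [4]] = true := by decide +kernel
theorem c13 : Model.growW R [[3], [4]] [1, 0, 1, 0, 1, 1, 0, 1, 0, 1, 1, 0, 1, 1, 0] (Nat.pow 2 19) (ival 1 56) = true := by decide +kernel
theorem c14 : mapsW R [1] (Nat.pow 2 0) (Nat.pow 2 19) = true := by decide +kernel
theorem c15 : Model.growW R [[1], [3], [4]] [0, 0, 1, 0, 2, 0, 2, 1, 2, 0, 0] (Nat.pow 2 0) (ival 0 57) = true := by decide +kernel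
theorem c16 : relsW R 0 R.lg ((ngR.drop 0).take 24) = true := by decide +kernel
theorem c17 : relsW R 0 R.lg ((xR.drop 0).take 1) = true := by decide +kernel
end H0.ML37
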